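import Cfsg.Agent.Lib.ET.Loc

/-!
# Local structure of `2^{1+20}.U₆(2)` as a normal subgroup of index dividing six
-/

set_option autoImplicit false

namespace Cfsg.Lib.E63F

open Subgroup QuadraticMap Cfsg.Lib.ES Cfsg.Lib.Orth Cfsg.Lib.U6 Cfsg.Lib.ET MulAction
open scoped commutatorElement

section Gr

variable {X : Type*} [Group X]

/-- `B` is normalised by `A` and has index dividing six. -/
structure Six (A B : Subgroup X) : Prop where
  conj : ∀ a ∈ A, ∀ b ∈ B, a * b * a⁻¹ ∈ B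
  pow : ∀ a ∈ A, a ^ 6 ∈ B
  two : ∀ T ≤ A, IsPGroup 2 T → Two T B

theorem Six.mono {A A' B : Subgroup X} (h : Six A B) (k : A' ≤ A) : Six A' B :=
  ⟨fun a ha => h.conj a (k ha), fun a ha => h.pow a (k ha), fun T hT => h.two T (hT.trans k)⟩

theorem Six.congr {A B A' B' : Subgroup X} (h : Six A B) (φ : X ≃* X) (hA : ∀ a, a ∈ A' → φ a ∈ A)
    (hB : ∀ b, b ∈ B' ↔ φ b ∈ B) : Six A' B' := by
  refine ⟨fun a ha b hb => (hB _).2 ?_, fun a ha => (hB _).2 ?_, fun T hT pT a ha b hb a' b' => (hB _).2 ?_⟩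
  · simpa using h.conj _ (hA a ha) _ ((hB b).1 hb)
  · simpa using h.pow _ (hA a ha)
  · rw [map_mul]
    exact h.two (T.map φ.toMonoidHom) (map_le_iff_le_comap.2 fun t ht => hA t (hT ht)) (pT.map _) _ ⟨a, ha, rfl⟩ _
      ⟨b, hb, rfl⟩ (mt (hB a).2 a') (mt (hB b).2 b')

theorem six_of [Finite X] {A B : Subgroup X} (nH : A ≤ normalizer (B : Set X)) (idx : B.relIndex A ∣ 6) : Six A B := by
  have N : (B.subgroupOf A).Normal := ⟨fun b hb a => (cj_mem (N := B) (nH a.2) hb :)⟩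
  refine ⟨fun a ha b hb => cj_mem (nH ha) hb, fun a ha => ?_, fun T hT pT => ?_⟩
  · obtain ⟨k, hk⟩ := idx
    have := (B.subgroupOf A).pow_index_mem ⟨a, ha⟩
    rw [hk, pow_mul]
    exact pow_mem this k
  · have d1 : B.relIndex T ∣ 6 := by
      refine Dvd.dvd.trans ?_ idx
      have := relIndex_dvd_index_of_normal (B.subgroupOf A) (T.subgroupOf A)
      rwa [relIndex_subgroupOf hT] at this
    obtain ⟨n, hn⟩ := IsPGroup.iff_card.1 pT
    have d2 : B.relIndex T ∣ 2 ^ n := hn ▸ relIndex_dvd_card B T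
    obtain ⟨m, -, hm⟩ := (Nat.dvd_prime_pow Nat.prime_two).1 d2
    have d3 : B.relIndex T ∣ 2 := by
      rw [hm] at d1 ⊢
      exact (Nat.Coprime.pow_left m (by decide : Nat.Coprime 2 3)).dvd_of_dvd_mul_right (show 2 ^ m ∣ 2 * 3 from d1)
    intro a ha b hb a' b'
    rcases (Nat.dvd_prime Nat.prime_two).1 d3 with e | e
    · exact absurd (relIndex_eq_one.1 e ha) a'
    · exact (mul_mem_iff_of_index_two (H := B.subgroupOf T) e (a := ⟨a, ha⟩) (b := ⟨b, hb⟩)).2 (iff_of_false a' b')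

theorem Six.sq [Finite X] {A B : Subgroup X} (h : Six A B) {a : X} (ha : a ∈ A) {n : ℕ} (e : a ^ 2 ^ n = 1) :
    a * a ∈ B := by
  obtain ⟨k, -, hk⟩ := (Nat.dvd_prime_pow Nat.prime_two).1 (orderOf_dvd_of_pow_eq_one e)
  exact (h.two (zpowers a) (zpowers_le.2 ha) (IsPGroup.of_card (by rw [Nat.card_zpowers, hk]))).sq (mem_zpowers a)

theorem Six.inv {A B : Subgroup X} (h : Six A B) {a b : X} (ha : a ∈ A) (hb : b ∈ A) (aa : a * a = 1) (bb : b * b = 1)
    (c : Commute a b) (a' : a ∉ B) (b' : b ∉ B) : a * b ∈ B := by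
  refine h.two (closure {a, b}) ((closure_le _).2 ?_) (isPGroup_of_sq fun x hx => ?_) a (subset_closure (by simp)) b
    (subset_closure (by simp)) a' b'
  · rintro _ (rfl | rfl)
    exacts [ha, hb]
  · have k : ∀ x ∈ closure ({a, b} : Set X), x * x = 1 ∧ Commute a x ∧ Commute b x := fun x hx => by
      induction hx using closure_induction with
      | mem x hx =>
        rcases hx with rfl | rfl
        exacts [⟨aa, .refl _, c.symm⟩, ⟨bb, c, .refl _⟩]
      | one => exact ⟨one_mul _, .one_right _, .one_right _⟩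
      | mul x y hx hy ix iy =>
        refine ⟨?_, ix.2.1.mul_right iy.2.1, ix.2.2.mul_right iy.2.2⟩
        have : Commute x y := closure_induction (p := fun x _ => Commute x y) (by
          rintro _ (rfl | rfl)
          exacts [iy.2.1, iy.2.2]) (.one_left _) (fun _ _ _ _ i i' => i.mul_left i') (fun _ _ i => i.inv_left) hx
        rw [mul_assoc, ← mul_assoc y, ← this.eq, mul_assoc, iy.1, mul_one, ix.1]
      | inv x _ i => exact ⟨by rw [← mul_inv_rev, i.1, inv_one], i.2.1.inv_right, i.2.2.inv_right⟩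
    exact (k x hx).1

theorem mem_of_coprime {B : Subgroup X} {a : X} {m n : ℕ} (c : m.Coprime n) (h1 : a ^ m ∈ B) (h2 : a ^ n ∈ B) : a ∈ B := by
  have e := Nat.gcd_eq_gcd_ab m n
  rw [c.gcd_eq_one] at e
  have : a = (a ^ m) ^ m.gcdA n * (a ^ n) ^ m.gcdB n := by
    rw [← zpow_natCast, ← zpow_natCast, ← zpow_mul, ← zpow_mul, ← zpow_add, ← e]; simp
  rw [this]
  exact mul_mem (zpow_mem h1 _) (zpow_mem h2 _)

end Gr

variable {V : Type*} [AddCommGroup V] [Module (ZMod 2) V] {q : QuadraticForm (ZMod 2) V}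
  {G : Type*} [Group G] {z w : G} {Q R : Subgroup G} {L : Subgroup (O q)} {w0 x0 : V}
  {W : Submodule (ZMod 2) V}

/-- The stabiliser is generated by elements of order prime to six. -/
def Gen6 (L : Subgroup (O q)) (w0 : V) : Prop :=
  ∀ B : Subgroup (O q), (∀ l ∈ L, l.1 w0 = w0 → (orderOf l).Coprime 6 → l ∈ B) → ∀ l ∈ L, l.1 w0 = w0 → l ∈ B

variable (D : CD z Q q) (six : Six (centralizer {z}) (Hs D L))

include six in
theorem norm_L6 {g l : O q} (hg : g ∈ D.Γ) (sur : L ≤ D.Γ) (hl : l ∈ L) : g * l * g⁻¹ ∈ L := by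
  obtain ⟨a, ha, rfl⟩ := D.mem_Γ.1 hg
  obtain ⟨b, hb, rfl⟩ := D.mem_Γ.1 (sur hl)
  exact D.ρ_conj ha hb ▸ (six.conj a (commute_iff_mem.1 ha) b ⟨hb, hl⟩).2

include six in
theorem orb6 (M : MF L w0 x0 W) (sur : L ≤ D.Γ) {T : Subgroup (O q)} (hT : IsPGroup 2 T) (h : T ≤ D.Γ) :
    ∃ l ∈ L, ∀ t ∈ T, t.1 (l.1 w0) = l.1 w0 :=
  M.orb hT fun _ ht _ hl => ⟨norm_L6 D six (h ht) sur hl, by simpa using norm_L6 D six (inv_mem (h ht)) sur hl⟩

include six in
theorem card_img6 [Finite G] (M : MF L w0 x0 W) (pr : Pr Q R z w) (hR : Nat.card R = Nat.card Q) :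
    Nat.card (D.sub R) ≤ 2 ^ 10 ∧ 2 ^ 18 ≤ Nat.card ↥(D.img R ⊓ L) * Nat.card (D.sub R) := by
  have h0 := D.card_V
  have h1 := D.card_pair pr hR
  have h2 := D.xd.card_inf_le pr (n := 10) (by rw [← h0, M.cardV]; rfl)
  have h3 := D.card_sub_of_mem pr.mem_r
  have := D.finite
  have : Finite (O q) := Finite.of_injective (fun g : O q => (g.1 : V → V)) fun _ _ e => O.ext (congrFun e)
  have h4 := Two.card (A := D.img R) (B := L) (by
    intro a ha b hb a' b'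
    obtain ⟨a, a0, a1, rfl⟩ := D.mem_img.1 ha
    obtain ⟨b, b0, b1, rfl⟩ := D.mem_img.1 hb
    exact D.ρ_mul a1 b1 ▸ (six.two (R ⊓ centralizer {z}) inf_le_right pr.r.isPGroup.to_inf_left a
      ⟨a0, commute_iff_mem.1 a1⟩ b ⟨b0, commute_iff_mem.1 b1⟩ (fun e => a' e.2) fun e => b' e.2).2)
  rw [← h0, M.cardV] at h1
  exact ⟨by omega, by nlinarith⟩

include six in
theorem orb_conj6 [Finite G] (M : MF L w0 x0 W) (sur : L ≤ D.Γ) {g : G} (hg : g * z * g⁻¹ ∈ Q)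
    (hne : g * z * g⁻¹ ≠ z) : ∃ l ∈ L, l.1 w0 = D.π (g * z * g⁻¹) := by
  have pr := D.lg.pr hg hne
  obtain ⟨c1, c2⟩ := card_img6 D six M pr (card_map_of_injective (MulAut.conj g).injective)
  have es := (D.cj g).es
  generalize g * z * g⁻¹ = w, Q.map (MulAut.conj g).toMonoidHom = R at *
  obtain ⟨l, hl, e⟩ := orb6 D six M sur (isPGroup_of_sq fun a ha => (D.img_fix pr ha).1) (T := D.img R)
    (map_le_range _ _)
  obtain ⟨v, ⟨x, hx, rfl⟩, e'⟩ := M.key ((D.img R ⊓ L).map (MulAut.conj l⁻¹).toMonoidHom)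
    (map_le_iff_le_comap.2 fun a ha => mul_mem (mul_mem (inv_mem hl) ha.2) (inv_mem (inv_mem hl))) (by
      rintro _ ⟨a, ha, rfl⟩
      exact ⟨by rw [← map_mul, (D.img_fix pr ha.1).1, map_one], (O.inv_apply_eq l).2 (e a ha.1)⟩)
    (by rw [card_map_of_injective (MulAut.conj l⁻¹).injective]; nlinarith) ((l⁻¹).1 (D.π w))
    ((D.sub R).map (l⁻¹).1.toLinearMap) (by
      rintro _ ⟨a, ha, rfl⟩ u hu
      exact ⟨_, D.cross pr ha.1 (v := l.1 u) (by rwa [O.polar_right]), by simp⟩)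
  replace e' : D.π x = l.1 w0 := (O.inv_apply_eq l).1 e'
  have : x ∈ closure ({w, z} : Set G) := pr.symm.centralizer_inf_le es fun r hr => by
    have a := commute_iff_mem.2 hr.2
    rcases D.conj_of_fix a hx.1 (by rw [e', e _ (D.mem_img.2 ⟨r, hr.1, a, rfl⟩)]) with k | k
    · exact mul_inv_eq_iff_eq_mul.1 k
    rcases pr.r.conj_eq_or hr.1 hx.2 with k' | k'
    · exact mul_inv_eq_iff_eq_mul.1 k'
    · exact absurd (mul_left_cancel ((k.symm.trans k').trans (pr.r.comm hx.2).symm)) pr.ne.symm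
  have n : D.π x ≠ 0 := e' ▸ O.apply_ne_zero l M.w_ne
  refine ⟨l, hl, e'.symm.trans ?_⟩
  rcases pr.symm.mem_iff.1 this with rfl | rfl | rfl | rfl
  exacts [absurd D.π_one n, rfl, absurd D.π_z n, D.π_mul_z pr.mem_l]

include six in
theorem sub_eq6 [Finite G] (M : MF L w0 x0 W) (sur : L ≤ D.Γ) (pr : Pr Q R z w) (hR : Nat.card R = Nat.card Q)
    (e : D.π w = w0) : D.sub R = W := by
  obtain ⟨c1, c2⟩ := card_img6 D six M pr hR
  have := D.finite
  refine (SetLike.coe_injective (Set.Finite.eq_of_subset_of_card_le (Set.toFinite _) (M.span (D.sub R) ⟨w, ⟨pr.mem_l, pr.r.mem⟩, e⟩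
    (by_contra fun k => ?_) fun l hl h v hv => D.apply_mem_sub pr (sur hl) (e ▸ h) hv) (c1.trans_eq M.cardW.symm))).symm
  have h1 := M.p2 (D.img R ⊓ L) inf_le_right (isPGroup_of_sq fun a ha => (D.img_fix pr ha.1).1)
  have h2 : Nat.card (D.sub R) ≤ 2 := (Nat.card_mono (t := {0, w0}) (Set.toFinite _) fun v hv => by
    by_contra a
    exact k ⟨v, hv, not_or.1 a⟩).trans (Nat.card_coe_set_eq _ ▸ (Set.ncard_insert_le _ _).trans_eq (by simp))
  nlinarith

theorem noSix [Finite G] (M : MF L w0 x0 W) (g6 : Gen6 L w0) (sur : L ≤ D.Γ) (pr : Pr Q R z w) (e : D.π w = w0)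
    {B : Subgroup G} (hB : Six (Hs D L ⊓ centralizer {w}) B) : Hs D L ⊓ centralizer {w} ≤ B := by
  have h1 : ∀ {x}, x ∈ Q → Commute w x → x ∈ B := M.gen' D sur pr e fun a ha a' x hx x' => by
    have m : a ∈ Hs D L ⊓ centralizer {w} := ⟨ha, commute_iff_mem.1 a'⟩
    by_cases k : x ∈ B
    · exact mul_mem (hB.conj a m x k) (inv_mem k)
    · refine hB.two (Q ⊓ centralizer {w}) (inf_le_inf_right _ (le_Hs D L)) D.lg.isPGroup.to_inf_left _
        ⟨D.conj_mem ha.1 hx, commute_iff_mem.1 ((a'.mul_right x').mul_right a'.inv_right)⟩ _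
        ⟨Q.inv_mem hx, commute_iff_mem.1 x'.inv_right⟩ (fun k' => k ?_) fun k' => k (inv_mem_iff.1 k')
      simpa [mul_assoc] using hB.conj _ (inv_mem m) _ k'
  intro a ha
  have a' := commute_iff_mem.2 ha.2
  obtain ⟨b, hb, b1, k⟩ := D.mem_img.1 (g6 (D.img (B ⊓ centralizer {w})) (fun l hl h ho => by
    obtain ⟨a, a1, a2, rfl⟩ := lift D pr sur hl (e ▸ h)
    exact D.mem_img.2 ⟨a, ⟨mem_of_coprime ho (h1 ((D.ker (a1.pow_right _)).1
      (by rw [D.ρ_pow a1, pow_orderOf_eq_one])) (a2.pow_right _)) (hB.pow a ⟨⟨a1, hl⟩, commute_iff_mem.1 a2⟩),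
      commute_iff_mem.1 a2⟩, a1, rfl⟩) _ ha.1.2
    (e ▸ D.fix_of_commute ha.1.1 pr.mem_l a'.symm))
  simpa using mul_mem hb.1 (h1 (D.inv_mul_mem b1 ha.1.1 k) ((commute_iff_mem.2 hb.2).inv_right.mul_right a'))

include six in
theorem exists_pt6 [Finite G] (M : MF L w0 x0 W) (g6 : Gen6 L w0) (sur : L ≤ D.Γ)
    (h : ∃ g, g * z * g⁻¹ ∈ Q ∧ g * z * g⁻¹ ≠ z) :
    ∃ (w : G) (R : Subgroup G) (D' : CD w R q), Pt L w0 W D D' := by
  obtain ⟨g, hg, hne, e⟩ : ∃ g, g * z * g⁻¹ ∈ Q ∧ g * z * g⁻¹ ≠ z ∧ D.π (g * z * g⁻¹) = w0 := by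
    obtain ⟨g, hg, hne⟩ := h
    obtain ⟨l, hl, e⟩ := orb_conj6 D six M sur hg hne
    obtain ⟨a, ha, e'⟩ := D.mem_Γ.1 (sur (inv_mem hl))
    have k : a * g * z * (a * g)⁻¹ = a * (g * z * g⁻¹) * a⁻¹ := by group
    have k' : D.π (a * g * z * (a * g)⁻¹) = w0 := by rw [k, D.π_conj ha hg, e', O.inv_apply_eq, e]
    exact ⟨a * g, k ▸ D.conj_mem ha hg, fun b => M.w_ne (by rw [← k', b, D.π_z]), k'⟩
  have pr := D.lg.pr hg hne
  obtain ⟨x, hx, e1, e2⟩ := D.lg.exists_conj_pair hg hne (u := g * z * g⁻¹) (v := z) (subset_closure (by simp))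
    (subset_closure (by simp)) pr.r.ne_one pr.l.ne_one hne
  rw [← D.lg.map_conj_eq e1] at hx pr
  rw [← e1] at pr e e2
  have b1 : x⁻¹ * z * x = x * z * x⁻¹ := by nth_rw 1 [← e2]; group
  have b2 : ∀ {a}, Commute (x * z * x⁻¹) a ↔ Commute z (x⁻¹ * a * x) := fun {a} =>
    ⟨fun h => by simpa [mul_assoc] using h.map (MulAut.conj x⁻¹), fun h => by simpa [mul_assoc] using h.map (MulAut.conj x)⟩
  have six' : Six (centralizer {x * z * x⁻¹}) (Hs (D.cj x) L) := six.congr (MulAut.conj x⁻¹)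
    (fun a ha => by simpa using commute_iff_mem.1 (b2.1 (commute_iff_mem.2 ha))) fun b => by
      rw [MulAut.conj_apply, inv_inv]
      exact ⟨fun k => ⟨b2.1 k.1, k.2⟩, fun k => ⟨b2.2 k.1, k.2⟩⟩
  have sur' : L ≤ (D.cj x).Γ := D.cj_Γ x ▸ sur
  have e' : (D.cj x).π z = w0 := by rw [CD.cj_π, b1, e]
  have c := card_map_of_injective (K := Q) (f := (MulAut.conj x).toMonoidHom) (MulAut.conj x).injective
  refine ⟨_, _, D.cj x, pr, sur, sur', e, e', fun i hi => ?_, sub_eq6 D six M sur pr c e,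
    sub_eq6 _ six' M sur' pr.symm c.symm e', fun a h h' => ⟨fun k => (noSix D M g6 sur pr e (six'.mono inf_le_right)
      ⟨⟨h, k⟩, commute_iff_mem.1 h'⟩).2, fun k => (noSix _ M g6 sur' pr.symm e' (six.mono inf_le_right)
      ⟨⟨h', k⟩, commute_iff_mem.1 h⟩).2⟩, x, rfl, rfl⟩
  have k := pr.commutator_inf_le (commutator_mem_commutator (inv_mem hx) hi)
  rw [CD.cj_π, show x⁻¹ * i * x = ⁅x⁻¹, i⁆ * i by rw [commutatorElement_def]; group, D.π_mul (pr.closure_le k).1 hi.1, add_comm]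
  rcases pr.mem_iff.1 k with k | k | k | k <;> rw [k]
  · exact .inl (by rw [D.π_one, add_zero])
  · exact .inl (by rw [D.π_z, add_zero])
  · exact .inr (by rw [e])
  · exact .inr (by rw [D.π_mul pr.l.mem pr.mem_l, D.π_z, zero_add, e])

end Cfsg.Lib.E63F
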