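import Cfsg.Agent.Lib.E63F.A
import Cfsg.Agent.Lib.ET.Hom

/-!
# The homomorphism from the group with a (B,N)-pair, index dividing six
-/

set_option autoImplicit false

namespace Cfsg.Lib.E63F

open Subgroup QuadraticMap Cfsg.Lib.ES Cfsg.Lib.Orth Cfsg.Lib.U6 Cfsg.Lib.ET MulAction Cfsg.Lib.BN

variable {V : Type*} [AddCommGroup V] [Module (ZMod 2) V] {q : QuadraticForm (ZMod 2) V}

theorem sq_of_fix [Finite V] (nd : ND q) {w0 x0 : V} (i : polar q w0 x0 = 0) {g : O q}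
    (f : ∀ v, polar q w0 v = 0 → polar q x0 v = 0 → g.1 v = v) : g * g = 1 := O.ext fun v => by
  have k : g.1 v + v ∈ Submodule.span (ZMod 2) {w0, x0} := (perp_perp nd _).le (mem_perp.2 fun u hu => by
    have := f u (mem_perp_pair.1 hu).1 (mem_perp_pair.1 hu).2
    rw [polar_add_right, O.polar_right, (O.inv_apply_eq g).2 this.symm, CharTwo.add_self_eq_zero])
  obtain ⟨a, b, e⟩ := Submodule.mem_span_pair.1 k
  have := f (g.1 v + v) (by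
    rw [← e, polar_add_right, polar_smul_right, polar_smul_right, polar_self2, i, smul_zero, smul_zero, add_zero]) (by
    rw [← e, polar_add_right, polar_smul_right, polar_smul_right, polar_self2, polar_comm q x0, i, smul_zero, smul_zero,
      add_zero])
  rw [map_add, add_comm (g.1 v), add_left_inj] at this
  exact this

variable {G E : Type*} [Group G] [Group E] {z₁ w₁ : G} {Q₁ R₁ : Subgroup G} {z₂ w₂ : E} {Q₂ R₂ : Subgroup E}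
  {L : Subgroup (O q)} {w0 x0 : V} {W : Submodule (ZMod 2) V} {D₁ : CD z₁ Q₁ q} {D₂ : CD z₂ Q₂ q}
  {D₁' : CD w₁ R₁ q} {D₂' : CD w₂ R₂ q} {Δ Δ' Γ : Subgroup (G × E)} {x s a a' b c : G × E} [Finite G] [Finite E]

section

variable (M : MF L w0 x0 W) (P₁ : Pt L w0 W D₁ D₁') (P₂ : Pt L w0 W D₂ D₂')
  (K : Lk L D₁ D₂ D₁' D₂' Δ Δ') (J : G1 L D₁ D₂ D₁' D₂' Δ Δ' Γ) (N : El w₁ z₂ w₂ x0 D₁ Δ Δ' Γ x s a a' b c)
  (hE : ∀ b, Commute z₂ b → D₂.ρ b ∈ L)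
include M P₁ P₂ K J N hE

theorem braid6 (six : Six (centralizer {z₁}) (Hs D₁ L)) : (a * a' * a⁻¹ * s) ^ 3 ∈ Γ := by
  have m : ∀ {g f}, g ∈ Γ → Act (z₁, z₂) (w₁, w₂) x g f → (∀ u, f u = u) →
      g ∈ Γ ⊓ centralizer (N.tri.U : Set (G × E)) := fun a b c => im a (b.cen N.tri c)
  have n : ∀ {g f}, g ∈ Γ → Act (z₁, z₂) (w₁, w₂) x g f →
      g ∈ normalizer ((Γ ⊓ centralizer (N.tri.U : Set (G × E)) : Subgroup _) : Set (G × E)) := fun a b =>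
    mem_norm fun k hk => im (mul_mem (mul_mem a (il hk)) (inv_mem a)) (cj_cen (b.norm N.tri) hk.2)
  have n1 : a * a' * a⁻¹ ∈ normalizer ((Γ ⊓ centralizer (N.tri.U : Set (G × E)) : Subgroup _) : Set (G × E)) :=
    mem_norm fun k hk => im (J.hd (cj_mem (N.n1 P₁ P₂ K) (J.crit K hk.1 (c1 (hk.2 _ ⟨_, io_w⟩)))))
      (cj_cen (N.A1.norm N.tri) hk.2)
  have A := N.A1.mul N.As
  have cz := c2 (A.cube.fz (by decide))
  obtain ⟨h, hh, e⟩ := J.ex2 K P₁.sur ⟨cz, hE _ cz⟩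
  have hh' : h ∈ Γ ⊓ centralizer (N.tri.U : Set (G × E)) := im hh fun p hp =>
    K.dl.i1.cen (J.le hh).2 ((N.pl P₁ K).1 hp).1 (e ▸ c2 (A.cube.cen N.tri (by decide) p hp))
  have i := (J.i1 K).mono (inf_le_left : Γ ⊓ centralizer (N.tri.U : Set (G × E)) ≤ _)
  obtain ⟨κ, k1, k2, k3, k4⟩ := kap i (mul_mem n1 (n N.hs N.As)) hh' e
  have hb := El.hd' K N.hb (N.Ab.fz (by decide))
  have B := N.As.mul N.Ab
  have r := mul_mem N.hs (J.hd hb)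
  have h1 := mul_mem (br7' n1 (n N.hs N.As) (n (J.dl N.ha) N.Aa) (n (J.hd hb) N.Ab) (n (J.dl N.hc) N.Ac) k3
    (m (J.hd (N.sq1 P₁ K)) (N.A1.mul N.A1) (by decide)) (m (mul_mem N.hs N.hs) (N.As.mul N.As) (by decide))
    (m (by simpa using J.hd (N.braid1 M P₁ P₂ K hE)) (N.A1.mul N.Aa).cube (by decide))
    (m (mul_mem (inv_mem (J.hd (cj_mem (N.n1 P₁ P₂ K) hb))) (J.dl N.hc)) ((((N.A1.mul N.Ab).mul (N.A1.inv
      (g := lin (0, 1, 0) (1, 0, 0) (0, 0, 1)) (by decide))).inv (g := lin (1, 0, 0) (0, 1, 0) (1, 0, 1))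
        (by decide)).mul N.Ac) (by decide))
    (m (mul_mem (inv_mem (mul_mem (mul_mem N.hs (J.dl N.hc)) (inv_mem N.hs))) (J.dl N.ha)) ((((N.As.mul N.Ac).mul
      (N.As.inv (g := lin (1, 0, 0) (0, 0, 1) (0, 1, 0)) (by decide))).inv (g := lin (1, 0, 0) (1, 1, 0) (0, 0, 1))
        (by decide)).mul N.Aa) (by decide)) (by rwa [k1, inv_mul_cancel_left])) (inv_mem (m (pow_mem r 3) B.cube (by decide)))
  generalize s * b = ρ at r h1 B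
  have h2 := i (κ * (ρ.1 * κ * ρ.1⁻¹) * (ρ.1 * (ρ.1 * κ * ρ.1⁻¹) * ρ.1⁻¹)) (by
    convert h1 using 1
    refine Prod.ext ?_ (by simp)
    simp only [pow_succ, Prod.fst_mul, Prod.fst_inv, pow_zero, Prod.fst_one]
    group)
  have d : ∀ p ∈ Δ, Commute (w₁, w₂) p → Commute x p → Commute p.1 κ := fun p hp a b => k4 p (m (J.dl hp)
    (N.tri.act (a := (1, 0, 0)) (b := (0, 1, 0)) (c := (0, 0, 1))
      (by rw [io_z, ← (K.dl.cz hp).eq, mul_inv_cancel_right]) (by rw [io_w, ← a.eq, mul_inv_cancel_right])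
      (by rw [io_x, ← b.eq, mul_inv_cancel_right])) (by decide))
  have z : Commute z₁ κ := d _ K.dl.zz N.tri.zw.symm N.tri.zx.symm
  have w := (K.dl.mem K.ww).1
  have d' : ∀ p ∈ Δ, polar q w0 (D₁.π p.1) = 0 → polar q x0 (D₁.π p.1) = 0 → Commute p.1 κ := fun p hp a b =>
    d p hp (K.dl.comm K.ww hp (P₁.πw ▸ a)) (K.dl.comm N.hx hp (N.πx ▸ b))
  have h3 : κ ∈ Hs D₁ L := by
    have a := commute_iff_mem.1 z
    have b := FF.h1 (J.le r)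
    have := D₁.finite
    have f : ∀ v, polar q w0 v = 0 → polar q x0 v = 0 → (D₁.ρ κ).1 v = v := fun v a b => by
      obtain ⟨p, hp, rfl⟩ := K.dl.exv v
      exact D₁.fix_of_commute z (K.dl.mem hp).1 (d' p hp a b).symm
    have s2 : κ ^ 2 ∈ Hs D₁ L := le_Hs D₁ L ((D₁.ker (z.pow_right 2)).1 (by
      rw [D₁.ρ_pow z, pow_two]
      exact sq_of_fix D₁.nd (M.iso _ M.w_mem _ M.x_mem) f))
    refine mem_of_coprime (by decide : Nat.Coprime 2 3) s2 ?_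
    have e1 : ∀ {y}, y ∈ Hs D₁ L → κ⁻¹ * y * κ ∈ Hs D₁ L := fun hy => by simpa using six.conj _ (inv_mem a) _ hy
    rw [show κ ^ 3 = κ * (ρ.1 * κ * ρ.1⁻¹) * (ρ.1 * (ρ.1 * κ * ρ.1⁻¹) * ρ.1⁻¹) * (ρ.1 * ρ.1 * (κ⁻¹ * ρ.1 * κ)⁻¹ *
      (κ⁻¹ * (κ⁻¹ * ρ.1 * κ) * κ)⁻¹) by simp [pow_succ, mul_assoc], h2, one_mul]
    exact mul_mem (mul_mem (mul_mem b b) (inv_mem (e1 b))) (inv_mem (e1 (e1 b)))
  obtain ⟨p, hp, rfl⟩ := K.dl.ex1 ((D₁.ker z).1 (M.faith _ h3.2 fun v hv => by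
    obtain ⟨p, hp, rfl⟩ := K.dl.exv v
    exact D₁.fix_of_commute z (K.dl.mem hp).1 (d' p hp (M.iso _ M.w_mem _ hv) (M.iso _ M.x_mem _ hv)).symm))
  have := D₁.finite
  obtain ⟨u, rfl⟩ := (N.pl P₁ K).2 ⟨hp, by
    obtain ⟨i, j, e⟩ := Submodule.mem_span_pair.1 ((perp_perp D₁.nd (.span _ {w0, x0})).le (mem_perp.2 fun v hv => by
      obtain ⟨p', hp', rfl⟩ := K.dl.exv v
      exact (D₁.comm (K.dl.mem hp').1 (K.dl.mem hp).1).1 (d' p' hp' (mem_perp_pair.1 hv).1 (mem_perp_pair.1 hv).2)))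
    rw [← e]
    rcases z2 i with rfl | rfl <;> rcases z2 j with rfl | rfl <;> simp [Pl, add_comm]⟩
  obtain rfl : u = 0 := by
    have a := N.fix M P₁ K A k2
    have b := congrArg Prod.fst (B u)
    have c := congrArg Prod.fst (B (lin (1, 0, 0) (0, 0, 1) (0, 1, 0) (lin (1, 0, 0) (0, 1, 0) (0, 1, 1) u)))
    simp only [Prod.fst_mul, Prod.fst_inv] at b c
    rw [b, c, ← Prod.fst_mul, ← Prod.fst_mul, ← N.tri.add, ← N.tri.add] at h2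
    have d := N.inj M P₁ K (v := 0) (h2.trans (by rw [io_zero]; rfl))
    revert a d
    generalize u = u
    revert u
    decide
  rw [k1, io_zero]
  simpa [← Prod.one_eq_mk] using hh

theorem amal6 (six : Six (centralizer {z₁}) (Hs D₁ L)) : ∃ Γ₂ Γ₃ : Subgroup (G × E), ∃ t ∈ Γ₂ ⊓ Γ₃,
    t * (z₁, z₂) * t⁻¹ = (w₁, w₂) ∧ t.1 ∈ Q₁ ⊔ R₁ ∧ Γ₂ ≤ Γ ⊔ zpowers t ∧ Γ₃ ≤ Γ ⊔ zpowers t ∧
    (∀ g ∈ Γ, (D₁.ρ g.1).1 w0 = w0 → g ∈ Γ₂) ∧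
    (∀ g ∈ Γ, Pl w0 x0 ((D₁.ρ g.1).1 w0) → Pl w0 x0 ((D₁.ρ g.1).1 x0) → g ∈ Γ₃) ∧
    (∀ g ∈ Γ₂, Commute z₂ g.2 → g ∈ Γ ∧ (D₁.ρ g.1).1 w0 = w0) ∧
    ∀ g ∈ Γ₃, Commute z₂ g.2 → g ∈ Γ ∧ Pl w0 x0 ((D₁.ρ g.1).1 x0) := by
  have cr : ∀ {A : Subgroup (G × E)} {g}, A ≤ Γ → (g ∈ A ∨ ∃ b ∈ A, ∃ b' ∈ A, g = b * (a * a' * a⁻¹) * b') →
      Commute z₂ g.2 → g ∈ A := by
    rintro A g hA (h | ⟨b, hb, b', hb', rfl⟩) e
    · exact h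
    have := ((FF.h2 (J.le (hA hb))).1.inv_right.mul_right e).mul_right (FF.h2 (J.le (hA hb'))).1.inv_right
    have k := congrArg Prod.snd (N.A1 (1, 0, 0))
    rw [show lin (0, 1, 0) (1, 0, 0) (0, 0, 1) (1, 0, 0) = (0, 1, 0) by decide, io_z, io_w] at k
    simp only [Prod.snd_mul, inv_mul_cancel_left, mul_inv_cancel_right, mul_assoc b.2] at this
    exact absurd (k.symm.trans (mul_inv_eq_iff_eq_mul.2 this.symm)) P₂.pr.ne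
  have w := P₁.pr.mem_l
  have π : ∀ g ∈ Γ, ∀ p ∈ Δ, g * p * g⁻¹ ∈ Δ ∧ D₁.π (g * p * g⁻¹).1 = (D₁.ρ g.1).1 (D₁.π p.1) := fun g hg p hp =>
    ⟨cj_mem (J.le hg).2 hp, D₁.π_conj (FF.h1 (J.le hg)).1 (K.dl.mem hp).1⟩
  have h2 : FF L D₁ D₂ Δ ⊓ FF L D₁' D₂' Δ' ≤ Γ ⊓ (Hs D₁ (stabilizer _ w0)).comap (MonoidHom.fst G E) := fun f hf =>
    ⟨J.hd hf, hf.1.1.1.1, P₁.πw ▸ D₁.fix_of_commute hf.1.1.1.1 w hf.2.1.1.1.symm⟩
  have cw : ∀ {g k f}, g ∈ Γ → k ∈ Γ → Act (z₁, z₂) (w₁, w₂) x k f →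
      io (z₁, z₂) (w₁, w₂) x (f (0, 1, 0)) = g * (w₁, w₂) * g⁻¹ → k⁻¹ * g ∈ FF L D₁ D₂ Δ ⊓ FF L D₁' D₂' Δ' :=
    fun {g k f} hg hk A e => J.crit K (mul_mem (inv_mem hk) hg) (c1 (p := (w₁, w₂)) (by
      rw [← A, io_w] at e
      calc _ = k⁻¹ * (k * (w₁, w₂) * k⁻¹) * g := by group
        _ = _ := by rw [e]; group))
  have u : ∀ {g f}, g ∈ Γ → Act (z₁, z₂) (w₁, w₂) x g f → g ∈ Γ ⊓ normalizer (N.tri.U : Set (G × E)) :=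
    fun a b => im a (b.norm N.tri)
  have b1 := N.braid1 M P₁ P₂ K hE
  refine ⟨(Γ ⊓ (Hs D₁ (stabilizer _ w0)).comap (MonoidHom.fst G E)) ⊔ zpowers (a * a' * a⁻¹),
    (Γ ⊓ normalizer (N.tri.U : Set (G × E))) ⊔ zpowers (a * a' * a⁻¹), _,
    ⟨mem_sup_right (mem_zpowers _), mem_sup_right (mem_zpowers _)⟩, ?_, ?_, sup_le_sup_right inf_le_left _,
    sup_le_sup_right inf_le_left _, fun g hg e => mem_sup_left ⟨hg, (FF.h1 (J.le hg)).1, e⟩,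
    fun g hg e e' => mem_sup_left ⟨hg, ?_⟩, fun g hg e => ?_, fun g hg e => ?_⟩
  · simpa only [io_z, show lin (0, 1, 0) (1, 0, 0) (0, 0, 1) (1, 0, 0) = (0, 1, 0) by decide, io_w] using N.A1 (1, 0, 0)
  · have := mem_sup_left (T := R₁) (K.dl.mem N.ha).1
    exact mul_mem (mul_mem this (mem_sup_right (K.dl'.mem N.ha').1)) (inv_mem this)
  · obtain ⟨_, a⟩ := (N.pl P₁ K).2 ⟨(π g hg _ K.ww).1, (π g hg _ K.ww).2 ▸ P₁.πw ▸ e⟩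
    obtain ⟨_, b⟩ := (N.pl P₁ K).2 ⟨(π g hg _ N.hx).1, (π g hg _ N.hx).2 ▸ N.πx ▸ e'⟩
    exact (N.tri.act (a := (1, 0, 0)) (by rw [io_z, ← (FF.cz (J.le hg)).eq, mul_inv_cancel_right]) a.symm
      b.symm).norm N.tri
  · have := cr inf_le_left (dc' h2 (N.n1 P₁ P₂ K) (N.sq1 P₁ K) (fun g hg => ?_) hg) e
    · exact ⟨this.1, this.2.2⟩
    rcases K.dl.eq_or K.ww (π g hg.1 _ K.ww).1 (((π g hg.1 _ K.ww).2.trans (P₁.πw ▸ hg.2.2)).trans P₁.πw.symm).symm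
      with k | k
    · exact .inl (J.crit K hg.1 (c1 (p := (w₁, w₂)) (mul_inv_eq_iff_eq_mul.1 k).symm))
    · exact .inr ⟨1, one_mem _, _, cw hg.1 (J.dl N.ha) N.Aa (by
        rw [k, ← N.tri.zw.eq, ← io_zw (x := x)]; exact congrArg _ (by decide)), a,
        ⟨J.dl N.ha, D₁.cz (K.dl.mem N.ha).1, D₁.ρ_of_mem (K.dl.mem N.ha).1 ▸ one_mem _⟩, by simp, by simpa using h2 b1⟩
  · have := cr inf_le_left (dc' (H := (FF L D₁ D₂ Δ ⊓ FF L D₁' D₂' Δ') ⊓ normalizer (N.tri.U : Set (G × E)))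
      (inf_le_inf_right _ J.hd) (mem_norm fun k hk => im (cj_mem (N.n1 P₁ P₂ K) hk.1)
        (mul_mem (mul_mem (N.A1.norm N.tri) (ir hk)) (inv_mem (N.A1.norm N.tri))))
      (im (N.sq1 P₁ K) ((N.A1.mul N.A1).norm N.tri)) (fun g hg => ?_) hg) e
    · have k := ((N.pl P₁ K).1 (cj_mem this.2 ⟨_, io_x⟩)).2
      rw [(π g this.1 _ N.hx).2, N.πx] at k
      exact ⟨this.1, k⟩
    obtain ⟨v, e⟩ := cj_mem hg.2 (⟨_, io_w⟩ : (w₁, w₂) ∈ N.tri.U)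
    have hb := im (El.hd' K N.hb (N.Ab.fz (by decide))) (N.Ab.norm N.tri)
    have hc := im (im (K.dl.le_F (L := L) N.hc) (K.h c N.hc (c1 (N.Ac.fw (by decide))))) (N.Ac.norm N.tri)
    have b2 := u (braid6 M P₁ P₂ K J N hE six) (N.A1.mul N.As).cube
    have st : ∀ {k t f f'}, k ∈ (FF L D₁ D₂ Δ ⊓ FF L D₁' D₂' Δ') ⊓ normalizer (N.tri.U : Set (G × E)) → t ∈ Γ →
        Act (z₁, z₂) (w₁, w₂) x k f → Act (z₁, z₂) (w₁, w₂) x t f' → f (f' (0, 1, 0)) = v →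
        (a * a' * a⁻¹ * t) ^ 3 ∈ Γ ⊓ normalizer (N.tri.U : Set (G × E)) → ∃ k ∈ _, ∃ k' ∈ _, ∃ t ∈ _,
          g = k * t * k' ∧ (a * a' * a⁻¹ * t) ^ 3 ∈ Γ ⊓ normalizer (N.tri.U : Set (G × E)) :=
      fun {k t f f'} hk ht A A' e' h => ⟨k, hk, _, im (cw hg.1 (mul_mem (J.hd hk.1) ht) (A.mul A') (e' ▸ e))
        (mul_mem (inv_mem ((A.mul A').norm N.tri)) (ir hg)), t, u ht A', by group, h⟩
    have A0 : Act (z₁, z₂) (w₁, w₂) x 1 id := fun _ => by simp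
    have n : v.2 ≠ 0 := fun k => O.apply_ne_zero (D₁.ρ g.1) M.w_ne (by
      rw [← P₁.πw, ← (π g hg.1 _ K.ww).2, ← e, N.π P₁ K, k]; simp)
    rcases (by decide : ∀ v : T3, v.2 ≠ 0 → v = (0, 1, 0) ∨ v = (1, 1, 0) ∨ v = (0, 0, 1) ∨ v = (1, 0, 1) ∨
      v = (0, 1, 1) ∨ v = (1, 1, 1)) v n with k | k | k | k | k | k
    · exact .inl (im (by simpa using cw hg.1 (one_mem _) A0 (k ▸ e)) hg.2)
    · exact .inr (st (one_mem _) (J.dl N.ha) A0 N.Aa (by rw [k]; decide)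
        (u (by simpa using J.hd b1) (N.A1.mul N.Aa).cube))
    · exact .inr (st (one_mem _) N.hs A0 N.As (by rw [k]; decide) b2)
    · exact .inr (st hc N.hs N.Ac N.As (by rw [k]; decide) b2)
    · exact .inr (st hb N.hs N.Ab N.As (by rw [k]; decide) b2)
    · exact .inr (st (mul_mem hc hb) N.hs (N.Ac.mul N.Ab) N.As (by rw [k]; decide) b2)

end

theorem exists_hom6 (M : MF L w0 x0 W) (P₁ : Pt L w0 W D₁ D₁') (P₂ : Pt L w0 W D₂ D₂')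
    (six : Six (centralizer {z₁}) (Hs D₁ L)) (hE : ∀ b, Commute z₂ b → D₂.ρ b ∈ L) {P : BNPair E} {U : Subgroup E}
    (B : BE P U) : ∃ ψ : E →* G, ψ z₂ = z₁ ∧ (∀ b ∈ Hs D₂ L, ψ b ∈ Hs D₁ L) ∧ (∀ y ∈ Q₂, ψ y ∈ Q₁) ∧ ψ.range = Hs D₁ L ⊔ R₁ := by
  obtain ⟨Δ, Δ', K⟩ := exists_lk M P₁ P₂
  obtain ⟨Γ, J⟩ := K.exists_g1 M P₁ P₂
  obtain ⟨x, s, a, a', b, c, N⟩ := exists_el M P₁ P₂ K J
  obtain ⟨Γ₂, Γ₃, t, ht, t1, t2, l2, l3, b2, b3, k2, k3⟩ := amal6 M P₁ P₂ K J N hE six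
  obtain ⟨T, hT, pT, cT, T1, T2, T3⟩ := M.syl
  obtain ⟨g, hg⟩ := B.conj M.cardV (hT.trans P₂.sur) pT cT
  have nT : ∀ {f}, f ∈ Γ → g * f.2 * g⁻¹ ∈ P.B → D₁.ρ f.1 ∈ normalizer (T : Set (O q)) := fun hf h =>
    K.dl.ρ_eq (J.le hf) ▸ (norm_Hs (hT.trans P₂.sur) (hg _ h)).2
  have f1 : ∀ {l}, l ∈ normalizer (T : Set (O q)) → l.1 w0 = w0 := fun {l} h => (T2 _ fun t ht =>
    ((O.inv_apply_eq l).1 (T1 _ (cj_mem' h ht)).1)).resolve_left (O.apply_ne_zero l M.w_ne)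
  have lift : ∀ l ∈ L, ∃ f ∈ Γ, D₁.ρ f.1 = l := fun l hl => by
    obtain ⟨a, ha, rfl⟩ := D₁.mem_Γ.1 (P₁.sur hl)
    obtain ⟨f, hf, rfl⟩ := J.ex1 K P₂.sur (a := a) ⟨ha, hl⟩
    exact ⟨f, hf, rfl⟩
  let π : G × E →* E := (MulAut.conj g).toMonoidHom.comp (MonoidHom.snd G E)
  have πe : ∀ {f f' : G × E}, π f = π f' → f.2 = f'.2 := fun e => (MulAut.conj g).injective e
  have i : ∀ {X : Subgroup (G × E)}, (∀ f ∈ X, Commute z₂ f.2 → f ∈ Γ) → ∀ f ∈ X, π f = 1 → f = 1 := fun h f hf e =>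
    have := πe (e.trans (map_one π).symm)
    (J.i1 K).eq (h f hf (this ▸ .one_right _)) (one_mem _) this
  have n : ∀ {X : Subgroup (G × E)} {f}, (∀ f ∈ X, Commute z₂ f.2 → f ∈ Γ) → f ∈ Γ → π f ∈ X.map π → f ∈ X := by
    rintro X f h hf ⟨f', hf', e⟩
    exact (J.i1 K).eq (h f' hf' (πe e ▸ (FF.h2 (J.le hf)).1)) hf (πe e) ▸ hf'
  have pw : Pl w0 x0 w0 := .inr (.inl rfl)
  have px : Pl w0 x0 x0 := .inr (.inr (.inl rfl))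
  have sw : (D₁.ρ s.1).1 w0 = x0 ∧ (D₁.ρ s.1).1 x0 = w0 := by
    have k := fun u => (D₁.π_conj (FF.h1 (J.le N.hs)).1 (K.dl.mem (N.mem K u)).1).symm.trans
      (congrArg (fun p => D₁.π p.1) (N.As u))
    simp only [N.π P₁ K] at k
    exact ⟨by simpa [lin] using k (0, 1, 0), by simpa [lin] using k (0, 0, 1)⟩
  obtain ⟨h1, h2⟩ := amalg (π := π) (B := Γ ⊓ P.B.comap π) B.fin B.S4 (fun _ h => h.2) (fun b hb => by
      have := (norm_Hs (hT.trans P₂.sur) (hg (g⁻¹ * b * g) (by simpa [mul_assoc] using hb))).1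
      obtain ⟨f, hf, e⟩ := J.ex2 K P₁.sur ⟨this, hE _ this⟩
      have e' : π f = b := by simp [π, e, mul_assoc]
      exact ⟨f, ⟨hf, show π f ∈ P.B from e' ▸ hb⟩, e'⟩) inf_le_left (fun f hf => b2 f hf.1 (f1 (nT hf.1 hf.2)))
    (fun f hf => b3 f hf.1 (by rw [f1 (nT hf.1 hf.2)]; exact pw) (T3 _ fun t ht =>
      (T1 _ (cj_mem' (nT hf.1 hf.2) ht)).2.imp (O.inv_apply_eq _).1 fun e =>
        ((O.inv_apply_eq _).1 e).trans (by rw [map_add, f1 (nT hf.1 hf.2)])))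
    (i fun _ h _ => h) (i fun f h e => (k2 f h e).1) (i fun f h e => (k3 f h e).1)
    ⟨t, ht, fun ⟨f, hf, e⟩ => P₂.pr.ne ((congrArg Prod.snd t1).symm.trans
      (mul_inv_eq_iff_eq_mul.2 (show Commute t.2 z₂ from πe e ▸ (FF.h2 (J.le hf)).1.symm)))⟩
    ⟨s, ⟨N.hs, b3 s N.hs (sw.1 ▸ px) (sw.2 ▸ pw)⟩, fun e => M.x_ne' (sw.1.symm.trans
      (k2 s (n (fun f h e => (k2 f h e).1) N.hs e) (FF.h2 (J.le N.hs)).1).2)⟩ (by
      obtain ⟨l, hl, l1, l2⟩ := M.f8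
      obtain ⟨f, hf, rfl⟩ := lift l hl
      exact ⟨f, ⟨hf, b2 f hf l1⟩, fun e => l2 (k3 f (n (fun f h e => (k3 f h e).1) hf e) (FF.h2 (J.le hf)).1).2⟩) (by
      obtain ⟨l, hl, l', hl', l1, l2, l3, l4, l5, l6, l7, l8⟩ := M.f7
      have := D₂.finite
      have : Finite (O q) := Finite.of_injective (fun g : O q => (g.1 : V → V)) fun _ _ e => O.ext (congrFun e)
      by_contra! k
      have k' : ∀ l ∈ L, l.1 w0 = w0 → l.1 x0 = x0 → l * l = 1 → l ∈ T := fun l hl a b c => by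
        obtain ⟨f, hf, rfl⟩ := lift l hl
        exact (eq_of_le_of_card_ge le_sup_right ((M.p2 _ (sup_le (zpowers_le.2 hl) hT)
          ((isPGroup_of_sq (by
            rintro _ ⟨k, rfl⟩; rw [← (Commute.refl _).mul_zpow, c, one_zpow])).to_sup_of_normal_right' pT (zpowers_le.2 (nT hf (k f ⟨⟨hf, b2 f hf a⟩,
            b3 f hf (a.symm ▸ pw) (b.symm ▸ px)⟩))))).trans cT)).ge (mem_sup_left (mem_zpowers _))
      obtain ⟨m, e⟩ := pT ⟨_, mul_mem (k' l hl l1 l2 l5) (k' l' hl' l3 l4 l6)⟩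
      exact l8 (pow_eq_one_iff_of_coprime (Nat.Coprime.pow_left m (by decide : Nat.Coprime 2 3)) |>.1
        ⟨congrArg Subtype.val e, l7⟩))
  choose p hp e using fun y => h2 (g * y * g⁻¹)
  replace e : ∀ y, (p y).2 = y := fun y => (MulAut.conj g).injective (e y)
  have I : I1 (Γ ⊔ Γ₂ ⊔ Γ₃) := fun a ha => congrArg Prod.fst (h1 _ ha (by simp [π]))
  let ψ : E →* G := MonoidHom.mk' (fun y => (p y).1) fun y y' =>
    congrArg Prod.fst (I.eq (hp _) (mul_mem (hp y) (hp y')) (by simp [e]))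
  have k : ∀ f ∈ Γ ⊔ Γ₂ ⊔ Γ₃, ψ f.2 = f.1 := fun f hf => congrArg Prod.fst (I.eq (hp _) hf (e _))
  have k' : ∀ f ∈ Γ, ψ f.2 = f.1 := fun f hf => k f (mem_sup_left (mem_sup_left hf))
  have k2 : Hs D₁ L ≤ ψ.range := fun a ha => let ⟨f, hf, e⟩ := J.ex1 K P₂.sur ha; ⟨f.2, e ▸ k' f hf⟩
  refine ⟨ψ, k' _ (J.dl K.dl.zz), fun y hy => ?_, fun y hy => ?_, le_antisymm ?_ (sup_le k2 fun r hr => ?_)⟩
  · obtain ⟨f, hf, rfl⟩ := J.ex2 K P₁.sur hy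
    exact k' f hf ▸ FF.h1 (J.le hf)
  · obtain ⟨f, hf, rfl⟩ := K.dl.ex2 hy
    exact k' f (J.dl hf) ▸ (K.dl.mem hf).1
  · rintro _ ⟨y, rfl⟩
    have a : Γ ≤ (Hs D₁ L ⊔ R₁).comap (MonoidHom.fst G E) := fun f hf => mem_sup_left (FF.h1 (J.le hf))
    have b := sup_le a (zpowers_le.2 (sup_le_sup_right (le_Hs D₁ L) R₁ t2))
    exact sup_le (sup_le a (l2.trans b)) (l3.trans b) (hp y)
  · obtain ⟨g, g1, g2⟩ := P₁.cj
    obtain ⟨y, hy, rfl⟩ := (g2.trans (D₁.lg.map_conj_eq (g1.trans (congrArg Prod.fst t1).symm))).le hr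
    have : t.1 ∈ ψ.range := ⟨_, k t (mem_sup_right ht.2)⟩
    exact mul_mem (mul_mem this (k2 (le_Hs D₁ L hy))) (inv_mem this)

end Cfsg.Lib.E63F
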